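import Cfsg.Agent.Lib.Helper21.PI5D.D2

/-! rung D2R: `d2r` is proved in `D2.lean`. -/
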